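import Mathlib.LinearAlgebra.Eigenspace.Pi
import Mathlib.LinearAlgebra.Eigenspace.Semisimple
import Mathlib.LinearAlgebra.Eigenspace.Triangularizable
import Mathlib.LinearAlgebra.Matrix.Charpoly.Basic
import Mathlib.LinearAlgebra.Charpoly.ToMatrix
import Mathlib.FieldTheory.Separable
import Mathlib.FieldTheory.IsAlgClosed.Basic
import Mathlib.LinearAlgebra.Basis.VectorSpace

/-!
# Simultaneous diagonalisation of an abelian group of matrices of order prime to the characteristic (helper234)

* `exists_basis` : a common basis of eigenvectors;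
* `exists_chars` : the characteristic polynomials are `∏ j, (X - χ j x)` for homomorphisms `χ j : P →* Kˣ`.
-/

set_option autoImplicit false
set_option linter.unusedSectionVars false

open Module Polynomial

namespace Cfsg.Agent.H234.HT

section

variable {K V : Type*} [Field K] [IsAlgClosed K] [AddCommGroup V] [Module K V] [FiniteDimensional K V]
  {P : Type*} [Group P] (ρ : P →* Module.End K V) (hc : ∀ x y, ρ x * ρ y = ρ y * ρ x) {N : ℕ} (hN : (N : K) ≠ 0)
  (hx : ∀ x : P, x ^ N = 1)

include hN hx in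
theorem semis (x : P) : (ρ x).IsSemisimple := by
  have h0 : N ≠ 0 := by
    rintro rfl
    exact hN Nat.cast_zero
  refine End.isSemisimple_of_squarefree_aeval_eq_zero (p := X ^ N - C 1) ?_ ?_
  · exact (separable_X_pow_sub_C (1 : K) hN one_ne_zero).squarefree
  · rw [map_sub, map_pow, aeval_X, aeval_C, map_one, ← map_pow, hx, map_one, sub_self]

include hc hN hx in
/-- **simultaneous diagonalisation** -/
theorem exists_basis : ∃ (κ : Type) (_ : Fintype κ) (b : Basis κ K V) (χ : κ → P → K), ∀ x j, ρ x (b j) = χ j x • b j := by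
  classical
  have hss := semis ρ hN hx
  have he : ∀ x μ, (ρ x).maxGenEigenspace μ = (ρ x).eigenspace μ := fun x μ =>
    (hss x).isFinitelySemisimple.maxGenEigenspace_eq_eigenspace μ
  have h : ∀ (i j : P) (φ : K), Set.MapsTo (ρ i) ((ρ j).maxGenEigenspace φ) ((ρ j).maxGenEigenspace φ) := fun i j φ =>
    End.mapsTo_maxGenEigenspace_of_comm (hc j i) φ
  have h1 := End.iSup_iInf_maxGenEigenspace_eq_top_of_forall_mapsTo (fun x => ρ x) h
    (fun x => End.iSup_maxGenEigenspace_eq_top (ρ x))
  have h2 := End.independent_iInf_maxGenEigenspace_of_forall_mapsTo (fun x => ρ x) h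
  have h3 := DirectSum.isInternal_submodule_of_iSupIndep_of_iSup_eq_top h2 h1
  let b := h3.collectedBasis fun χ => Free.chooseBasis K ↥(⨅ i, (ρ i).maxGenEigenspace (χ i))
  have hfin : Fintype (Σ χ : P → K, Free.ChooseBasisIndex K ↥(⨅ i, (ρ i).maxGenEigenspace (χ i))) :=
    @Fintype.ofFinite _ (Module.Finite.finite_basis b)
  let e := Fintype.equivFin (Σ χ : P → K, Free.ChooseBasisIndex K ↥(⨅ i, (ρ i).maxGenEigenspace (χ i)))
  refine ⟨_, inferInstance, b.reindex e, fun j => (e.symm j).1, fun x j => ?_⟩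
  rw [Basis.reindex_apply]
  have h4 := h3.collectedBasis_mem (fun χ => Free.chooseBasis K ↥(⨅ i, (ρ i).maxGenEigenspace (χ i))) (e.symm j)
  rw [Submodule.mem_iInf] at h4
  have h5 := h4 x
  rw [he] at h5
  exact End.mem_eigenspace_iff.1 h5

include hc hN hx in
theorem exists_chars : ∃ (κ : Type) (_ : Fintype κ) (_ : DecidableEq κ) (b : Basis κ K V) (χ : κ → P →* Kˣ),
    ∀ x, LinearMap.toMatrix b b (ρ x) = Matrix.diagonal fun j => ((χ j x : Kˣ) : K) := by
  classical
  obtain ⟨κ, hκ, b, χ, h⟩ := exists_basis ρ hc hN hx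
  have hb : ∀ j, b j ≠ 0 := fun j => b.ne_zero j
  have h1 : ∀ j, χ j 1 = 1 := by
    intro j
    have := h 1 j
    rw [map_one, End.one_apply] at this
    have h2 : (1 - χ j 1) • b j = 0 := by rw [sub_smul, one_smul, ← this, sub_self]
    rcases smul_eq_zero.1 h2 with h3 | h3
    · exact (sub_eq_zero.1 h3).symm
    · exact absurd h3 (hb j)
  have hm : ∀ j x y, χ j (x * y) = χ j x * χ j y := by
    intro j x y
    have h2 := h (x * y) j
    rw [map_mul, End.mul_apply, h y, map_smul, h x, smul_smul] at h2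
    have h3 : (χ j (x * y) - χ j x * χ j y) • b j = 0 := by rw [sub_smul, ← h2, mul_comm, sub_self]
    rcases smul_eq_zero.1 h3 with h4 | h4
    · exact sub_eq_zero.1 h4
    · exact absurd h4 (hb j)
  let ψ : κ → P →* K := fun j => { toFun := χ j, map_one' := h1 j, map_mul' := hm j }
  refine ⟨κ, hκ, inferInstance, b, fun j => (ψ j).toHomUnits, fun x => ?_⟩
  ext i j
  rw [LinearMap.toMatrix_apply, h x j, map_smul, Finsupp.smul_apply, Basis.repr_self, Matrix.diagonal_apply,
    MonoidHom.coe_toHomUnits]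
  by_cases hij : i = j
  · subst hij
    rw [Finsupp.single_eq_same, if_pos rfl, smul_eq_mul, mul_one]
    rfl
  · rw [Finsupp.single_apply, if_neg (Ne.symm hij), if_neg hij, smul_zero]

end

/-- **the characteristic polynomials of the elements of a commutative group of matrices** -/
theorem exists_charpoly {K : Type*} [Field K] [IsAlgClosed K] {ι : Type*} [Fintype ι] [DecidableEq ι] {P : Type*} [Group P]
    (ρ : P →* Matrix ι ι K) (hc : ∀ x y, ρ x * ρ y = ρ y * ρ x) {N : ℕ} (hN : (N : K) ≠ 0) (hx : ∀ x : P, x ^ N = 1) :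
    ∃ (κ : Type) (_ : Fintype κ) (χ : κ → P →* Kˣ), ∀ x, (ρ x).charpoly = ∏ j, (X - C ((χ j x : Kˣ) : K)) := by
  classical
  let τ : P →* Module.End K (ι → K) := (Matrix.toLinAlgEquiv' : Matrix ι ι K ≃ₐ[K] Module.End K (ι → K)).toMonoidHom.comp ρ
  have hτ : ∀ x, τ x = Matrix.toLin' (ρ x) := fun x => rfl
  obtain ⟨κ, hκ, hd, b, χ, h⟩ := exists_chars τ (fun x y => by
    show Matrix.toLinAlgEquiv' (ρ x) * Matrix.toLinAlgEquiv' (ρ y) = Matrix.toLinAlgEquiv' (ρ y) * Matrix.toLinAlgEquiv' (ρ x)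
    rw [← map_mul Matrix.toLinAlgEquiv' (ρ x) (ρ y), ← map_mul Matrix.toLinAlgEquiv' (ρ y) (ρ x), hc]) hN hx
  refine ⟨κ, hκ, χ, fun x => ?_⟩
  rw [← Matrix.charpoly_diagonal, ← h x, LinearMap.charpoly_toMatrix, hτ, Matrix.charpoly_toLin']

end Cfsg.Agent.H234.HT
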