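import Cfsg.Agent.H234.HT.Ed3
import Cfsg.Agent.H234.HT.Diag
import Mathlib.LinearAlgebra.Matrix.Charpoly.FiniteField
import Mathlib.LinearAlgebra.Matrix.Charpoly.Minpoly
import Mathlib.FieldTheory.IsAlgClosed.AlgebraicClosure
import Mathlib.RingTheory.Polynomial.Cyclotomic.Basic

/-!
# S4933, part (O): matrix groups (helper234)

`G` a group of matrices over the finite field `F`, `K` its algebraic closure.

* `ed`  : the eigenvalues of the elements of `G`;
* `transport` : the eigenvalues in an extension field `k` give eigenvalues in `K`;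
* `exists_isP` : the element may be chosen of `p`-power order;
* `exists_fd_mat` : from `HasElt3` to the class function `FD` with `Test`.
-/

set_option autoImplicit false

open Subgroup Polynomial

namespace Cfsg.Agent.H234.HT

open Cfsg Cfsg.Agent.H37.HT

section Roots

variable {K : Type*} [Field K]

theorem roots_prod {ι : Type*} [Fintype ι] (a : ι → K) :
    (∏ i, (X - C (a i)) : K[X]).roots = (Finset.univ : Finset ι).val.map a := by
  have h := roots_multiset_prod_X_sub_C ((Finset.univ : Finset ι).val.map a)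
  rw [Multiset.map_map] at h
  exact h

theorem roots_map_of [IsAlgClosed K] (φ : K →+* K) (P : K[X]) : (P.map φ).roots = P.roots.map φ :=
  (IsAlgClosed.splits P).roots_map φ

end Roots

section Mat

variable {ι : Type} [Fintype ι] [DecidableEq ι] {F : Type} [Field F] {K : Type} [Field K] (g : F →+* K)

/-- the eigenvalues -/
noncomputable def eE (x : GL ι F) : Multiset K :=
  (((x : Matrix ι ι F).charpoly).map g).roots

theorem eE_conj (h x : GL ι F) : eE g (h * x * h⁻¹) = eE g x := by
  rw [eE, eE, Units.val_mul, Units.val_mul, Matrix.coe_units_inv, Matrix.charpoly_units_conj]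

theorem eE_of_charpoly {x y : GL ι F} (h : (x : Matrix ι ι F).charpoly = (y : Matrix ι ι F).charpoly) :
    eE g x = eE g y := by
  rw [eE, eE, h]

variable (G : Subgroup (GL ι F)) {p r f : ℕ}

/-- the representation over `K` -/
def rh (P : Subgroup G) : P →* Matrix ι ι K where
  toFun x := (((x : G) : GL ι F) : Matrix ι ι F).map g
  map_one' := by
    show (1 : Matrix ι ι F).map g = 1
    exact Matrix.map_one g (map_zero g) (map_one g)
  map_mul' x y := by
    show ((((x : G) : GL ι F) : Matrix ι ι F) * (((y : G) : GL ι F) : Matrix ι ι F)).map g = _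
    exact Matrix.map_mul

theorem rh_charpoly (P : Subgroup G) (x : P) :
    (rh g G P x).charpoly = ((((x : G) : GL ι F) : Matrix ι ι F).charpoly).map g :=
  Matrix.charpoly_map _ g

variable [IsAlgClosed K] [Finite F] [hp : Fact p.Prime]

/-- **the eigenvalue datum** -/
noncomputable def ed [Fact r.Prime] [CharP K r] [CharP F r] (hrp : r ≠ p) (hab : AbSyl p G)
    (hfr : ∀ x ∈ G, (x : Matrix ι ι F).charpoly.map (iterateFrobenius F r f) = (x : Matrix ι ι F).charpoly) :
    ED p r f G K where
  E x := eE g (x : GL ι F)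
  conj h x _ := by
    rw [Subgroup.coe_mul, Subgroup.coe_mul, Subgroup.coe_inv]
    exact eE_conj g _ _
  lin P := by
    have hpK : (p : K) ≠ 0 := by
      intro h
      have h1 := (CharP.cast_eq_zero_iff K r p).1 h
      exact hrp ((Nat.prime_dvd_prime_iff_eq Fact.out hp.out).1 h1)
    obtain ⟨κ, hκ, χ, h⟩ := exists_charpoly (rh g G (P : Subgroup G)) (fun x y => by
      rw [← map_mul, ← map_mul, show x * y = y * x from Subtype.ext (hab P x x.2 y y.2)])
      (N := Nat.card (P : Subgroup G)) (by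
        rw [Sylow.card_eq_multiplicity, Nat.cast_pow]
        exact pow_ne_zero _ hpK) (fun x => pow_card_eq_one')
    refine ⟨Fintype.card κ, fun i => χ ((Fintype.equivFin κ).symm i), fun x => ?_⟩
    rw [eE, ← rh_charpoly, h x, roots_prod]
    rw [← Function.comp_def (fun j => ((χ j x : Kˣ) : K)) (Fintype.equivFin κ).symm,
      ← Multiset.map_map]
    congr 1
    have h1 : (Finset.univ : Finset (Fin (Fintype.card κ))).map (Fintype.equivFin κ).symm.toEmbedding = Finset.univ :=
      Finset.map_univ_equiv _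
    exact (congrArg Finset.val h1).symm
  frob x _ := by
    have h1 : (iterateFrobenius K r f : K → K) = fun a => a ^ r ^ f :=
      funext fun a => iterateFrobenius_def r f a
    rw [← h1, eE, ← roots_map_of, Polynomial.map_map]
    have h2 : (iterateFrobenius K r f).comp g = g.comp (iterateFrobenius F r f) := by
      ext a
      simp only [RingHom.comp_apply, iterateFrobenius_def, map_pow]
    rw [h2, ← Polynomial.map_map, hfr x x.2]

end Mat

/-! ### transport -/

theorem transport {ι : Type} [Fintype ι] {F K k : Type} [Field F] [Field K] [Field k] [Algebra F K]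
    [Algebra.IsAlgebraic F K] (f0 : F →+* k) {N : ℕ} (hN : N ≠ 0) {ω : K} {z : k} (hω : IsPrimitiveRoot ω N)
    (hz : IsPrimitiveRoot z N) {P : F[X]} {ex : ι → ℕ} (h : P.map f0 = ∏ i, (X - C (z ^ ex i))) :
    ∃ c : ℕ, c.Coprime N ∧ P.map (algebraMap F K) = ∏ i, (X - C (ω ^ (c * ex i))) := by
  have hNz : NeZero N := ⟨hN⟩
  let _ : Algebra F (AlgebraicClosure k) := ((algebraMap k (AlgebraicClosure k)).comp f0).toAlgebra
  have τ : K →ₐ[F] AlgebraicClosure k := IsAlgClosed.lift
  obtain ⟨L, iL, hL⟩ : ∃ (L : Type) (_ : Field L), ∃ (a : k →+* L) (t : K →+* L), t.comp (algebraMap F K) = a.comp f0 :=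
    ⟨AlgebraicClosure k, inferInstance, algebraMap k (AlgebraicClosure k), τ.toRingHom, by
      ext x
      exact τ.commutes x⟩
  obtain ⟨a, t, hat⟩ := hL
  have h1 : IsPrimitiveRoot (a z) N := hz.map_of_injective (f := a) a.injective
  have h2 : IsPrimitiveRoot (t ω) N := hω.map_of_injective (f := t) t.injective
  obtain ⟨c, -, hc⟩ := h2.eq_pow_of_pow_eq_one h1.pow_eq_one
  refine ⟨c, (h2.pow_iff_coprime (Nat.pos_of_ne_zero hN) c).1 (hc ▸ h1), ?_⟩
  apply Polynomial.map_injective t t.injective
  rw [Polynomial.map_map, hat, ← Polynomial.map_map, h, Polynomial.map_prod, Polynomial.map_prod]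
  refine Finset.prod_congr rfl fun i _ => ?_
  have e1 : a (z ^ ex i) = t (ω ^ (c * ex i)) := by rw [map_pow, map_pow, ← hc, pow_mul]
  rw [Polynomial.map_sub, Polynomial.map_sub, map_X, map_C, map_C, map_X, e1]

theorem charpoly_pow {ι : Type} [Fintype ι] [DecidableEq ι] {F : Type} [Field F] [Fintype F] (A : Matrix ι ι F) (t : ℕ) :
    (A ^ Fintype.card F ^ t).charpoly = A.charpoly := by
  induction t with
  | zero => rw [pow_zero, pow_one]
  | succ t ih => rw [pow_succ, pow_mul, FiniteField.Matrix.charpoly_pow_card, ih]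

/-- a matrix of order prime to the characteristic whose eigenvalues are `N`-th roots of unity -/
theorem pow_eq_one_of {ι : Type} [Fintype ι] [DecidableEq ι] {K : Type} [Field K] [IsAlgClosed K] {A : Matrix ι ι K}
    {n N : ℕ} (hn : (n : K) ≠ 0) (hN : N ≠ 0) (hA : A ^ n = 1) (h : ∀ a ∈ A.charpoly.roots, a ^ N = 1) : A ^ N = 1 := by
  have hint : IsIntegral K A := A.isIntegral
  have h0 : minpoly K A ≠ 0 := minpoly.ne_zero hint
  have h1 : minpoly K A ∣ X ^ n - C 1 := minpoly.dvd K A (by rw [map_sub, map_pow, aeval_X, aeval_C, map_one, hA, sub_self])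
  have h2 : (minpoly K A).Separable := (separable_X_pow_sub_C (1 : K) hn one_ne_zero).of_dvd h1
  have h3 : (minpoly K A).roots.Nodup := nodup_roots h2
  have h4 : (X ^ N - C 1 : K[X]) ≠ 0 := X_pow_sub_C_ne_zero (Nat.pos_of_ne_zero hN) 1
  have h5 : minpoly K A ∣ X ^ N - C 1 := by
    rw [(IsAlgClosed.splits (minpoly K A)).eq_prod_roots_of_monic (minpoly.monic hint),
      Multiset.prod_X_sub_C_dvd_iff_le_roots h4, Multiset.le_iff_subset h3]
    intro a ha
    rw [mem_roots h4, IsRoot.def, eval_sub, eval_pow, eval_X, eval_C, sub_eq_zero]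
    apply h
    rw [mem_roots A.charpoly_monic.ne_zero]
    exact (mem_roots h0).1 ha |>.dvd (Matrix.minpoly_dvd_charpoly A)
  have h6 := aeval_eq_zero_of_dvd_aeval_eq_zero h5 (minpoly.aeval K A)
  rw [map_sub, map_pow, aeval_X, aeval_C, map_one, sub_eq_zero] at h6
  exact h6

theorem exists_isP {ι : Type} [Fintype ι] [DecidableEq ι] {F K : Type} [Field F] [Finite F] [Field K] [IsAlgClosed K]
    (g : F →+* K) {G : Subgroup (GL ι F)} {y : GL ι F} (hy : y ∈ G) {N : ℕ} (hN : N ≠ 0) {ω : K} (hω : ω ^ N = 1)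
    {a : ι → ℕ} (h : ((y : Matrix ι ι F).charpoly).map g = ∏ i, (X - C (ω ^ a i))) :
    ∃ y' ∈ G, (y' : Matrix ι ι F).charpoly = (y : Matrix ι ι F).charpoly ∧ y' ^ N = 1 := by
  have hF := Fintype.ofFinite F
  obtain ⟨r, hr⟩ := CharP.exists F
  have hrp : r.Prime := CharP.char_is_prime F r
  have hKr : CharP K r := charP_of_injective_ringHom g.injective r
  have hrQ : r ∣ Fintype.card F := by
    have h1 := FiniteField.cast_card_eq_zero F
    exact (CharP.cast_eq_zero_iff F r _).1 h1
  have hfin : Finite (GL ι F) := inferInstance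
  have hn0 : orderOf y ≠ 0 := (orderOf_pos y).ne'
  obtain ⟨t, n', hn', hnn⟩ := Nat.exists_eq_pow_mul_and_not_dvd hn0 r hrp.ne_one
  have hcp : ((y ^ Fintype.card F ^ t : GL ι F) : Matrix ι ι F).charpoly = (y : Matrix ι ι F).charpoly := by
    rw [Units.val_pow_eq_pow_val, charpoly_pow]
  have hpow : (y ^ Fintype.card F ^ t) ^ n' = 1 := by
    rw [← pow_mul]
    apply orderOf_dvd_iff_pow_eq_one.1
    rw [hnn]
    exact Nat.mul_dvd_mul (pow_dvd_pow_of_dvd hrQ t) dvd_rfl
  refine ⟨y ^ Fintype.card F ^ t, G.pow_mem hy _, hcp, ?_⟩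
  have h1 : ((((y ^ Fintype.card F ^ t : GL ι F) : Matrix ι ι F).map g)) ^ N = 1 := by
    have hm : ∀ (z : GL ι F) (j : ℕ), ((z : Matrix ι ι F).map g) ^ j = ((z ^ j : GL ι F) : Matrix ι ι F).map g := by
      intro z j
      rw [Units.val_pow_eq_pow_val]
      exact ((g.mapMatrix : Matrix ι ι F →+* Matrix ι ι K).map_pow _ _).symm
    refine pow_eq_one_of (n := n') ?_ hN ?_ ?_
    · intro h2
      exact hn' ((CharP.cast_eq_zero_iff K r n').1 h2)
    · rw [hm, hpow]
      show (1 : Matrix ι ι F).map g = 1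
      exact Matrix.map_one g (map_zero g) (map_one g)
    · intro b hb
      rw [Matrix.charpoly_map, hcp, h, roots_prod, Multiset.mem_map] at hb
      obtain ⟨i, -, rfl⟩ := hb
      rw [← pow_mul, mul_comm, pow_mul, hω, one_pow]
  have h2 : (((y ^ Fintype.card F ^ t) ^ N : GL ι F) : Matrix ι ι F).map g = (1 : Matrix ι ι F).map g := by
    rw [Units.val_pow_eq_pow_val, Matrix.map_one g (map_zero g) (map_one g), ← h1]
    exact (g.mapMatrix : Matrix ι ι F →+* Matrix ι ι K).map_pow _ _
  exact Units.ext (Matrix.map_injective g.injective h2)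

/-- **the class function** -/
theorem eyc_of {ι : Type} [Fintype ι] [DecidableEq ι] {F : Type} [Field F] [Finite F] {K : Type} [Field K]
    [IsAlgClosed K] [Algebra F K] [Algebra.IsAlgebraic F K] {G : Subgroup (GL ι F)} {p r f : ℕ} [hp : Fact p.Prime]
    [Fact r.Prime] [CharP K r] [CharP F r] (hrp : r ≠ p) (hab : AbSyl p G)
    (hfr : ∀ x ∈ G, (x : Matrix ι ι F).charpoly.map (iterateFrobenius F r f) = (x : Matrix ι ι F).charpoly)
    (h : HasElt3 p G (r ^ f)) : EYc (ed (algebraMap F K) G hrp hab hfr) := by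
  intro hpf e m ω he0 he hm h1 h2 hω
  obtain ⟨y, hy, k, ik, f0, z, ex, hz, hE, hc⟩ := h (m + 1) (by omega) (by rw [he]; exact h1) (by rw [he]; exact h2)
  have hN : p ^ (m + 1) ≠ 0 := pow_ne_zero _ hp.out.ne_zero
  have hE' : ((y : Matrix ι ι F).charpoly).map f0 = ∏ i, (X - C (z ^ ex i)) := by
    rw [← Matrix.charpoly_map]
    exact hE
  obtain ⟨c, hcc, hE2⟩ := transport f0 hN hω hz hE'
  obtain ⟨y', hy', hcp, hyN⟩ := exists_isP (algebraMap F K) hy hN hω.pow_eq_one hE2
  refine ⟨⟨y', hy'⟩, ι, inferInstance, ex, c, ⟨m + 1, Subtype.ext hyN⟩, ?_, ?_, hc⟩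
  · show eE (algebraMap F K) y' = _
    rw [eE, hcp, hE2, roots_prod]
  · exact (Nat.coprime_pow_right_iff (Nat.succ_pos m) c p).1 hcc

end Cfsg.Agent.H234.HT
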