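import Mathlib.LinearAlgebra.Matrix.Charpoly.Basic
import Mathlib.LinearAlgebra.Matrix.GeneralLinearGroup.Defs
import Mathlib.RingTheory.RootsOfUnity.PrimitiveRoots
import Mathlib.Data.ZMod.Basic

/-!
# S4933, part (O), exceptional groups: the interface (helper234)

`G` a group of matrices over `F`, `q` a power of the characteristic, `p` a prime not dividing `q`, `e` the order of `q` modulo `p`.

* `Cnt p m ex`   : the exponents `ex i` (modulo `p ^ m`) satisfy one of the two criteria of Lemma B (`H234/HT/LemB`);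
* `HasElt p G q` : for every `m ≥ 2` with `p ^ m` the exact power of `p` in `q ^ e - 1`, the group `G` contains a matrix `y` with
  eigenvalues `z ^ ex i`, `z` a primitive `p ^ m`-th root of unity in an extension field, and `Cnt p m ex`.
-/

set_option autoImplicit false

open Polynomial

namespace Cfsg.Agent.H234.HT

/-- the two criteria -/
def Cnt (p m : ℕ) {ι : Type*} [Fintype ι] (ex : ι → ℕ) : Prop :=
  ∃ r : ℕ, ¬ p ∣ r ∧
    (¬ p ∣ (Finset.univ.filter fun i => ex i % p ^ (m - 1) = r % p ^ (m - 1)).card ∨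
      (5 ≤ p ∧ ¬ p ∣ ∑ i ∈ Finset.univ.filter (fun i => ex i % p ^ (m - 1) = r % p ^ (m - 1)), ex i / p ^ (m - 1)))

/-- the eigenvalues of `A` over `k` are the `z ^ ex i` -/
def Eig {ι : Type*} [Fintype ι] [DecidableEq ι] {F : Type*} [Field F] (A : Matrix ι ι F) {k : Type*} [Field k]
    (f : F →+* k) (z : k) (ex : ι → ℕ) : Prop :=
  (A.map f).charpoly = ∏ i, (X - C (z ^ ex i))

/-- **the element** -/
def HasElt (p : ℕ) {ι : Type*} [Fintype ι] [DecidableEq ι] {F : Type*} [Field F] (G : Subgroup (GL ι F)) (q : ℕ) : Prop :=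
  ∀ m : ℕ, 2 ≤ m → p ^ m ∣ q ^ orderOf ((q : ℕ) : ZMod p) - 1 → ¬ p ^ (m + 1) ∣ q ^ orderOf ((q : ℕ) : ZMod p) - 1 →
    ∃ y ∈ G, ∃ (k : Type) (_ : Field k) (f : F →+* k) (z : k) (ex : ι → ℕ),
      IsPrimitiveRoot z (p ^ m) ∧ Eig (y : Matrix ι ι F) f z ex ∧ Cnt p m ex

end Cfsg.Agent.H234.HT
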