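import Cfsg.Agent.H234.HT.ExcDefs

/-!
# S4933, part (O), exceptional groups: the interface with the second moment (helper234, helper395)

`Cnt3`, `HasElt3` : `Cnt`, `HasElt` with a third alternative (`E₇`, `e = 4`, `p = 5`).
-/

set_option autoImplicit false

open Polynomial

namespace Cfsg.Agent.H234.HT

/-- the three criteria -/
def Cnt3 (p m : ℕ) {ι : Type*} [Fintype ι] (ex : ι → ℕ) : Prop :=
  Cnt p m ex ∨ ∃ r : ℕ, ¬ p ∣ r ∧ 5 ≤ p ∧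
    ¬ p ∣ ∑ i ∈ Finset.univ.filter (fun i => ex i % p ^ (m - 1) = r % p ^ (m - 1)), (ex i / p ^ (m - 1)) ^ 2

/-- **the element** -/
def HasElt3 (p : ℕ) {ι : Type*} [Fintype ι] [DecidableEq ι] {F : Type*} [Field F] (G : Subgroup (GL ι F)) (q : ℕ) : Prop :=
  ∀ m : ℕ, 2 ≤ m → p ^ m ∣ q ^ orderOf ((q : ℕ) : ZMod p) - 1 → ¬ p ^ (m + 1) ∣ q ^ orderOf ((q : ℕ) : ZMod p) - 1 →
    ∃ y ∈ G, ∃ (k : Type) (_ : Field k) (f : F →+* k) (z : k) (ex : ι → ℕ),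
      IsPrimitiveRoot z (p ^ m) ∧ Eig (y : Matrix ι ι F) f z ex ∧ Cnt3 p m ex

theorem HasElt.three {p : ℕ} {ι : Type*} [Fintype ι] [DecidableEq ι] {F : Type*} [Field F] {G : Subgroup (GL ι F)} {q : ℕ}
    (h : HasElt p G q) : HasElt3 p G q := by
  intro m h1 h2 h3
  obtain ⟨y, hy, k, ik, f, z, ex, h4, h5, h6⟩ := h m h1 h2 h3
  exact ⟨y, hy, k, ik, f, z, ex, h4, h5, Or.inl h6⟩

end Cfsg.Agent.H234.HT
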