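import Cfsg.Agent.H234.HT.ExcCommon
import Cfsg.Agent.H406.HT.TwSix
import Cfsg.Agent.H395.HT.OutTwE6
import Cfsg.Agent.H371.HT.Three

/-!
# S4933, part (O): the field `OAb.e6t` (helper234)
-/

set_option autoImplicit false

namespace Cfsg.Agent.H234.HT

open Cfsg Cfsg.Agent.H37.HT Cfsg.Agent.H316.HT Cfsg.Agent.H892.HT

theorem e6t_ab (p : ℕ) [hp : Fact p.Prime] (F : Type) [Field F] [Fintype F] (q : ℕ) (hp2 : p ≠ 2) (hq : IsPrimePow q)
    (hF : Fintype.card F = q ^ 2) (hpq : ¬ p ∣ q) (hab : Ab p (Lie.twistedE6 F q)) (hpG : p ∣ Nat.card (Lie.twistedE6 F q)) :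
    Row p (Lie.twistedE6 F q) := by
  have hp3 : p ≠ 3 := by
    rintro rfl
    exact Cfsg.Agent.H371.HT.not_ab_twE6 hq hF (by rw [hF]; exact fun h => hpq (Nat.prime_three.dvd_of_dvd_pow h)) hab
  have h5 : 5 ≤ p := by
    have h1 := hp.out.two_le
    have h4 : p ≠ 4 := by rintro rfl; exact absurd hp.out (by norm_num)
    omega
  refine row_q hp2 hq hF hpq hab (Cfsg.Agent.H406.HT.hasElt_twE6 hq hF hp.out h5 hpq hpG).three ?_
  rintro r f hr - hf rfl
  exact Cfsg.Agent.H395.HT.TE6.outD_te6 hr hf hF hp.out h5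

end Cfsg.Agent.H234.HT
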