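import Cfsg.Agent.H234.HT.RowUntw
import Cfsg.Agent.H234.HT.RowE6t
import Cfsg.Agent.H234.HT.RowD4t
import Cfsg.Agent.H234.HT.RowF4t

/-!
# S4933, part (O): the eight exceptional fields of `OAb` (helper234)

For `R := fun p K => p ∣ Nat.card K → Row p K`, the fields `g2, f4, e6, e7, e8, e6t, d4t, f4t` of `H892.HT.OAb R`
are `oab_g2, …, oab_f4t`.
-/

set_option autoImplicit false

namespace Cfsg.Agent.H234.HT

open Cfsg Cfsg.Agent.H316.HT Cfsg.Agent.H892.HT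

theorem oab_g2 (p : ℕ) [Fact p.Prime] (F : Type) [Field F] [Fintype F] [IsSimpleGroup (Lie.chevG2.group F)] (hp2 : p ≠ 2)
    (hpF : ¬ p ∣ Fintype.card F) (hab : Ab p (Lie.chevG2.group F)) :
    p ∣ Nat.card (Lie.chevG2.group F) → Row p (Lie.chevG2.group F) :=
  untw_ab p (by simp) F hp2 hpF hab

theorem oab_f4 (p : ℕ) [Fact p.Prime] (F : Type) [Field F] [Fintype F] [IsSimpleGroup (Lie.chevF4.group F)] (hp2 : p ≠ 2)
    (hpF : ¬ p ∣ Fintype.card F) (hab : Ab p (Lie.chevF4.group F)) :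
    p ∣ Nat.card (Lie.chevF4.group F) → Row p (Lie.chevF4.group F) :=
  untw_ab p (by simp) F hp2 hpF hab

theorem oab_e6 (p : ℕ) [Fact p.Prime] (F : Type) [Field F] [Fintype F] [IsSimpleGroup (Lie.chevE6.group F)] (hp2 : p ≠ 2)
    (hpF : ¬ p ∣ Fintype.card F) (hab : Ab p (Lie.chevE6.group F)) :
    p ∣ Nat.card (Lie.chevE6.group F) → Row p (Lie.chevE6.group F) :=
  untw_ab p (by simp) F hp2 hpF hab

theorem oab_e7 (p : ℕ) [Fact p.Prime] (F : Type) [Field F] [Fintype F] [IsSimpleGroup (Lie.chevE7.group F)] (hp2 : p ≠ 2)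
    (hpF : ¬ p ∣ Fintype.card F) (hab : Ab p (Lie.chevE7.group F)) :
    p ∣ Nat.card (Lie.chevE7.group F) → Row p (Lie.chevE7.group F) :=
  untw_ab p (by simp) F hp2 hpF hab

theorem oab_e8 (p : ℕ) [Fact p.Prime] (F : Type) [Field F] [Fintype F] [IsSimpleGroup (Lie.chevE8.group F)] (hp2 : p ≠ 2)
    (hpF : ¬ p ∣ Fintype.card F) (hab : Ab p (Lie.chevE8.group F)) :
    p ∣ Nat.card (Lie.chevE8.group F) → Row p (Lie.chevE8.group F) :=
  untw_ab p (by simp) F hp2 hpF hab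

theorem oab_e6t (p : ℕ) [Fact p.Prime] (F : Type) [Field F] [Fintype F] (q : ℕ) [IsSimpleGroup (Lie.twistedE6 F q)]
    (hp2 : p ≠ 2) (hq : IsPrimePow q) (hF : Fintype.card F = q ^ 2) (hpq : ¬ p ∣ q) (hab : Ab p (Lie.twistedE6 F q)) :
    p ∣ Nat.card (Lie.twistedE6 F q) → Row p (Lie.twistedE6 F q) :=
  e6t_ab p F q hp2 hq hF hpq hab

theorem oab_d4t (p : ℕ) [Fact p.Prime] (F : Type) [Field F] [Fintype F] (q : ℕ) [IsSimpleGroup (Lie.twistedD4 F q)]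
    (hp2 : p ≠ 2) (hq : IsPrimePow q) (hF : Fintype.card F = q ^ 3) (hpq : ¬ p ∣ q) (hab : Ab p (Lie.twistedD4 F q)) :
    p ∣ Nat.card (Lie.twistedD4 F q) → Row p (Lie.twistedD4 F q) :=
  d4t_ab p F q hp2 hq hF hpq hab

theorem oab_f4t (p : ℕ) [Fact p.Prime] (hp2 : p ≠ 2) :
    SpR (fun p K _ => p ∣ Nat.card K → Row p K) p fun K => Lie.Iso2F4 K ∧ Ab p K :=
  fun K _ _ _ _ h => f4t_ab p hp2 K h.1 h.2

/-- the eight fields together: `OAb R` from the six classical fields -/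
theorem oab_of {R : ℕ → (K : Type) → [Group K] → Prop}
    (hR : ∀ (p : ℕ) (K : Type) [Group K], (p ∣ Nat.card K → Row p K) → R p K)
    (psl : ∀ (p : ℕ) [Fact p.Prime] (F : Type) [Field F] [Fintype F] (n : ℕ)
      [IsSimpleGroup (Matrix.ProjectiveSpecialLinearGroup (Fin n) F)], p ≠ 2 → 2 ≤ n → ¬ p ∣ Fintype.card F →
      Ab p (Matrix.ProjectiveSpecialLinearGroup (Fin n) F) → R p (Matrix.ProjectiveSpecialLinearGroup (Fin n) F))
    (psu : ∀ (p : ℕ) [Fact p.Prime] (F : Type) [Field F] [Fintype F] (n q : ℕ) [IsSimpleGroup (PSU n F q)], p ≠ 2 →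
      3 ≤ n → Fintype.card F = q ^ 2 → ¬ p ∣ q → Ab p (PSU n F q) → R p (PSU n F q))
    (psp : ∀ (p : ℕ) [Fact p.Prime] (F : Type) [Field F] [Fintype F] (m : ℕ) [IsSimpleGroup (PSp m F)], p ≠ 2 → 2 ≤ m →
      ¬ p ∣ Fintype.card F → Ab p (PSp m F) → R p (PSp m F))
    (oodd : ∀ (p : ℕ) [Fact p.Prime] (F : Type) [Field F] [Fintype F] (m : ℕ)
      [IsSimpleGroup (POmega F (quadFormOdd m F))], p ≠ 2 → 3 ≤ m → Odd (Fintype.card F) → ¬ p ∣ Fintype.card F →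
      Ab p (POmega F (quadFormOdd m F)) → R p (POmega F (quadFormOdd m F)))
    (oplus : ∀ (p : ℕ) [Fact p.Prime] (F : Type) [Field F] [Fintype F] (m : ℕ)
      [IsSimpleGroup (POmega F (quadFormPlus m F))], p ≠ 2 → 4 ≤ m → ¬ p ∣ Fintype.card F →
      Ab p (POmega F (quadFormPlus m F)) → R p (POmega F (quadFormPlus m F)))
    (ominus : ∀ (p : ℕ) [Fact p.Prime] (F : Type) [Field F] [Fintype F] (m : ℕ) (a b : F)
      [IsSimpleGroup (POmega F (quadFormMinus (m - 1) F a b))], p ≠ 2 → 4 ≤ m →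
      (∀ z₁ z₂ : F, z₁ ^ 2 + a * z₁ * z₂ + b * z₂ ^ 2 = 0 → z₁ = 0 ∧ z₂ = 0) → ¬ p ∣ Fintype.card F →
      Ab p (POmega F (quadFormMinus (m - 1) F a b)) → R p (POmega F (quadFormMinus (m - 1) F a b))) : OAb R where
  psl := psl
  psu := psu
  psp := psp
  oodd := oodd
  oplus := oplus
  ominus := ominus
  g2 p _ F _ _ _ h2 hF ha := hR p _ (oab_g2 p F h2 hF ha)
  f4 p _ F _ _ _ h2 hF ha := hR p _ (oab_f4 p F h2 hF ha)
  e6 p _ F _ _ _ h2 hF ha := hR p _ (oab_e6 p F h2 hF ha)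
  e7 p _ F _ _ _ h2 hF ha := hR p _ (oab_e7 p F h2 hF ha)
  e8 p _ F _ _ _ h2 hF ha := hR p _ (oab_e8 p F h2 hF ha)
  e6t p _ F _ _ q _ h2 hq hF hpq ha := hR p _ (oab_e6t p F q h2 hq hF hpq ha)
  d4t p _ F _ _ q _ h2 hq hF hpq ha := hR p _ (oab_d4t p F q h2 hq hF hpq ha)
  f4t p _ h2 K _ _ _ hna hK := hR p _ (oab_f4t p h2 K hna hK)

end Cfsg.Agent.H234.HT
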