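import Mathlib.NumberTheory.Multiplicity
import Mathlib.FieldTheory.Finite.Basic
import Mathlib.NumberTheory.Padics.PadicVal.Basic

/-!
# S4933, part (O): the number `κ = q₁ q ^ (e - 1)`, `q = q₁ ^ p` (helper234)
-/

set_option autoImplicit false

namespace Cfsg.Agent.H234.HT

/-- `κ = 1 + p ^ m * u`, `p ∤ u` -/
theorem kappa {p q1 e m : ℕ} [hp : Fact p.Prime] (hp2 : p ≠ 2) (hq : ¬ p ∣ q1)
    (he : orderOf (((q1 ^ p : ℕ)) : ZMod p) = e) (h1 : p ^ (m + 1) ∣ (q1 ^ p) ^ e - 1)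
    (h2 : ¬ p ^ (m + 2) ∣ (q1 ^ p) ^ e - 1) : ∃ u : ℕ, ¬ p ∣ u ∧ q1 * (q1 ^ p) ^ (e - 1) = 1 + p ^ m * u := by
  have hodd : Odd p := hp.out.odd_of_ne_two hp2
  have hq0 : q1 ≠ 0 := by
    rintro rfl
    exact hq (dvd_zero p)
  have hq1 : q1 ≠ 1 := by
    rintro rfl
    simp at h2
  have hq2 : 2 ≤ q1 := by omega
  have hunit : ((q1 ^ p : ℕ) : ZMod p) ≠ 0 := by
    rw [Ne, ZMod.natCast_eq_zero_iff]
    intro h
    exact hq (hp.out.dvd_of_dvd_pow h)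
  have hep : e ∣ p - 1 := by
    rw [← he]
    exact orderOf_dvd_of_pow_eq_one (ZMod.pow_card_sub_one_eq_one hunit)
  have he0 : 0 < e := Nat.pos_of_ne_zero (by
    rintro rfl
    rw [Nat.zero_dvd] at hep
    have := hp.out.two_le
    omega)
  obtain ⟨d, hd⟩ := hep
  set X := q1 * (q1 ^ p) ^ (e - 1) with hX
  obtain ⟨e', rfl⟩ : ∃ e', e = e' + 1 := ⟨e - 1, by omega⟩
  rw [Nat.add_sub_cancel] at hX
  set s := 1 + d * e' with hs
  -- `X ^ p = (q ^ e) ^ s`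
  have hes : (e' + 1) * s = 1 + p * e' := by
    have hp1 : p = (e' + 1) * d + 1 := by have := hp.out.two_le; omega
    calc (e' + 1) * s = (e' + 1) + ((e' + 1) * d) * e' := by rw [hs]; ring
      _ = 1 + ((e' + 1) * d + 1) * e' := by ring
      _ = 1 + p * e' := by rw [← hp1]
  have hXp : X ^ p = ((q1 ^ p) ^ (e' + 1)) ^ s := by
    rw [← pow_mul (q1 ^ p), hes, hX, mul_pow, pow_add, pow_one, ← pow_mul (q1 ^ p), mul_comm e' p]
  have hps : ¬ p ∣ s := by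
    intro h
    have h3 : p ∣ 1 + p * e' := hes ▸ h.mul_left (e' + 1)
    have h4 := (Nat.dvd_add_left (dvd_mul_right p e')).1 h3
    exact hp.out.one_lt.ne' (Nat.dvd_one.1 h4)
  have hX2 : 2 ≤ X := by
    have h3 : 1 ≤ (q1 ^ p) ^ e' := Nat.one_le_pow _ _ (Nat.pow_pos (by omega))
    calc 2 ≤ q1 := hq2
      _ = q1 * 1 := (mul_one _).symm
      _ ≤ X := Nat.mul_le_mul_left _ h3
  have hpX : ¬ p ∣ X := by
    intro h
    rcases (hp.out.dvd_mul).1 h with h3 | h3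
    · exact hq h3
    · exact hq (hp.out.dvd_of_dvd_pow (hp.out.dvd_of_dvd_pow h3))
  have hY2 : 1 < (q1 ^ p) ^ (e' + 1) := Nat.one_lt_pow (by omega) (Nat.one_lt_pow hp.out.ne_zero (by omega))
  have hpY : p ∣ (q1 ^ p) ^ (e' + 1) - 1 := (dvd_pow_self p (by omega)).trans h1
  have hpY' : ¬ p ∣ (q1 ^ p) ^ (e' + 1) := fun h => hq (hp.out.dvd_of_dvd_pow (hp.out.dvd_of_dvd_pow h))
  have hv1 : padicValNat p ((q1 ^ p) ^ (e' + 1) - 1) = m + 1 := by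
    have hne : (q1 ^ p) ^ (e' + 1) - 1 ≠ 0 := by omega
    have h3 : m + 1 ≤ padicValNat p ((q1 ^ p) ^ (e' + 1) - 1) := (padicValNat_dvd_iff_le hne).1 h1
    have h4 : ¬ m + 2 ≤ padicValNat p ((q1 ^ p) ^ (e' + 1) - 1) := fun h => h2 ((padicValNat_dvd_iff_le hne).2 h)
    omega
  have hs0 : s ≠ 0 := by omega
  have hv2 := padicValNat.pow_sub_pow hodd hY2 hpY hpY' hs0
  rw [one_pow, hv1, padicValNat.eq_zero_of_not_dvd hps, add_zero, ← hXp] at hv2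
  -- `X = 1` modulo `p`
  have hX1 : p ∣ X - 1 := by
    have h3 : p ∣ X ^ p - 1 := by
      rw [hXp]
      have h5 := Nat.sub_dvd_pow_sub_pow ((q1 ^ p) ^ (e' + 1)) 1 s
      rw [one_pow] at h5
      exact hpY.trans h5
    have h4 : ((X : ℕ) : ZMod p) = 1 := by
      have h5 : ((X ^ p - 1 : ℕ) : ZMod p) = 0 := (ZMod.natCast_eq_zero_iff _ _).2 h3
      rw [Nat.cast_sub (Nat.one_le_pow _ _ (by omega)), Nat.cast_pow, ZMod.pow_card, Nat.cast_one, sub_eq_zero] at h5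
      exact h5
    rw [← ZMod.natCast_eq_zero_iff, Nat.cast_sub (by omega), h4, Nat.cast_one, sub_self]
  have hv3 := padicValNat.pow_sub_pow hodd (show 1 < X by omega) hX1 hpX hp.out.ne_zero
  rw [one_pow, hv2, padicValNat.self hp.out.one_lt] at hv3
  have hv4 : padicValNat p (X - 1) = m := by omega
  have hXne : X - 1 ≠ 0 := by omega
  obtain ⟨u, hu⟩ : p ^ m ∣ X - 1 := (padicValNat_dvd_iff_le hXne).2 hv4.ge
  refine ⟨u, fun h => ?_, by omega⟩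
  obtain ⟨v, rfl⟩ := h
  have h3 : p ^ (m + 1) ∣ X - 1 := ⟨v, by rw [hu]; ring⟩
  have h4 := (padicValNat_dvd_iff_le hXne).1 h3
  omega

end Cfsg.Agent.H234.HT
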