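import Cfsg.Agent.H234.HT.LemB
import Cfsg.Agent.H234.HT.ExcDefs3

/-!
# S4933, part (O), Lemma B: the second moment, and `Cnt3` (helper234)
-/

set_option autoImplicit false

namespace Cfsg.Agent.H234.HT

open Polynomial Finset

section

variable {p n : ℕ} [hp : Fact p.Prime] {ζ : ℂ} (hζ : IsPrimitiveRoot ζ (p ^ (n + 1))) (hn : 1 ≤ n) {u : ℕ} (hu : ¬ p ∣ u)
  {ι : Type*} (s : Finset ι) (k : ι → ℕ) {z : ℂ} (hz : IsIntegral ℤ z)
  (h : ∑ i ∈ s, ζ ^ k i - ∑ i ∈ s, ζ ^ ((1 + p ^ n * u) * k i) = (p : ℂ) * z)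

include hζ hn hu hz h in
/-- **the second moment in a class** -/
theorem sq_dvd (hp5 : 5 ≤ p) {r : ℕ} (hr : ¬ p ∣ r) :
    p ∣ ∑ i ∈ s.filter (fun i => k i % p ^ n = r % p ^ n), (k i / p ^ n) ^ 2 := by
  have hq : 0 < p ^ n := pow_pos hp.out.pos _
  have h0 := count_dvd hζ hn hu s k hz h (by omega) hr
  have h00 := sum_dvd hζ hn hu s k hz h hp5 hr
  have h1 := func_eq hζ (f := fn p (p ^ n) r 3) (fn_sum hq r (by omega)) s s k (fun i => (1 + p ^ n * u) * k i) hz h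
  simp only [fn_twist hn] at h1
  simp only [fn] at h1
  rw [← Finset.sum_filter, ← Finset.sum_filter] at h1
  have hexp : ∀ a b : ZMod p, (a + b) ^ 3 = a ^ 3 + (3 * b * a ^ 2 + (3 * b ^ 2 * a + b ^ 3)) := fun a b => by ring
  simp only [hexp] at h1
  rw [Finset.sum_add_distrib, Finset.sum_add_distrib, Finset.sum_add_distrib, left_eq_add, Finset.sum_const, nsmul_eq_mul,
    (ZMod.natCast_eq_zero_iff _ _).2 h0, zero_mul, add_zero, ← Finset.mul_sum, ← Finset.mul_sum, ← Nat.cast_sum,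
    (ZMod.natCast_eq_zero_iff _ _).2 h00, mul_zero, add_zero] at h1
  have hur : ((u * r : ℕ) : ZMod p) ≠ 0 := by
    intro h2
    rw [ZMod.natCast_eq_zero_iff] at h2
    rcases (hp.out.dvd_mul).1 h2 with h3 | h3
    · exact hu h3
    · exact hr h3
  have h3 : (3 : ZMod p) ≠ 0 := by
    intro h4
    have h5 : ((3 : ℕ) : ZMod p) = 0 := by exact_mod_cast h4
    rw [ZMod.natCast_eq_zero_iff] at h5
    have := Nat.le_of_dvd (by norm_num) h5
    omega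
  have h4 := (mul_eq_zero.1 h1).resolve_left (mul_ne_zero h3 hur)
  rw [← ZMod.natCast_eq_zero_iff, Nat.cast_sum, ← h4]
  exact Finset.sum_congr rfl fun i _ => Nat.cast_pow _ _

end

/-- **the congruence is impossible** -/
theorem not_cong {p n : ℕ} [hp : Fact p.Prime] (hp2 : p ≠ 2) (hn : 1 ≤ n) {ι : Type*} [Fintype ι] {ex : ι → ℕ}
    (hc : Cnt3 p (n + 1) ex) {ζ : ℂ} (hζ : IsPrimitiveRoot ζ (p ^ (n + 1))) {u : ℕ} (hu : ¬ p ∣ u) {z : ℂ}
    (hz : IsIntegral ℤ z) : ∑ i, ζ ^ ex i - ∑ i, ζ ^ ((1 + p ^ n * u) * ex i) ≠ (p : ℂ) * z := by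
  intro h
  rcases hc with ⟨r, hr, h1 | ⟨h5, h1⟩⟩ | ⟨r, hr, h5, h1⟩
  · exact h1 (count_dvd hζ hn hu Finset.univ ex hz h hp2 hr)
  · exact h1 (sum_dvd hζ hn hu Finset.univ ex hz h h5 hr)
  · exact h1 (sq_dvd hζ hn hu Finset.univ ex hz h h5 hr)

end Cfsg.Agent.H234.HT
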